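import Cfsg.Agent.HNR.Chk

/-! Contractions of closed paths. -/

set_option autoImplicit false

namespace CF.HNR

def g0 : List ℕ := [29, 19, 17]
def g1 : List ℕ := [37, 5, 19, 17]
def g2 : List ℕ := [1, 24, 17]
def o1 : List (Op × ℕ) := [(.ex 1 [5, 7, 9, 3, 5, 2] [5, 32, 40, 29, 22, 23] [26, 2, 38, 29, 6], 2),
  (.ex 1 [5, 7, 9, 1, 3, 5, 1] [31, 38, 17, 26, 14, 38, 27] [33, 22, 9, 19, 23], 2),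
  (.ct 1 [11, 9, 3, 5, 1] [9, 11, 2, 3, 5, 7, 9, 1, 3, 5, 7, 3, 5, 1, 3, 15] [39, 27, 39, 24, 39, 20] [19, 11, 27, 30, 14, 20], 1),
  (.ex 1 [5, 7, 9, 7, 5, 1] [30, 34, 35, 27, 20] [23, 26, 2, 35, 4, 40, 21], 0),
  (.ct 1 [11, 7, 9, 7, 5, 2] [1, 3, 5, 7, 9, 2, 3, 5, 7, 2, 3, 5, 3, 13, 15] [19, 31, 25, 28, 30, 20] [29, 2, 39, 5, 2, 21, 36], 1),
  (.ex 1 [11, 9, 7, 5, 1] [24, 1, 38, 35, 2, 23, 20] [9, 3, 26, 19, 26, 10], 0),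
  (.ct 1 [9, 5, 1] [7, 9, 3, 5, 1] [19, 9, 5, 2, 20] [1, 40, 22, 31, 4, 20, 1], 1),
  (.ct 1 [3, 5, 7, 9, 1, 3, 5, 1] [2, 3, 5, 7, 9, 11, 2, 3, 5, 7, 9, 5, 7, 1, 3, 5, 3, 2, 13, 15] [24, 25, 3, 23, 8, 27] [24, 27, 23, 33, 2, 39, 23], 1),
  (.ct 1 [5, 7, 9, 1, 3, 5, 1] [1, 3, 5, 7, 9, 11, 5, 7, 9, 7, 1, 3, 2, 13] [25, 9, 23, 34, 2, 18, 37] [19, 11, 32, 22, 1, 23, 2], 2),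
  (.ex 1 [7, 9, 3, 5, 2] [34, 40, 40, 34, 2, 16, 36] [27, 29, 19, 29, 6, 27], 2),
  (.ct 1 [1, 3, 5, 7, 9, 2, 3, 5, 2] [1, 3, 5, 7, 9, 11, 3, 5, 7, 9, 2, 3, 5, 7, 3, 5, 3, 1, 13, 15] [29, 15, 39, 27, 6, 31, 30] [28, 24, 40, 22, 12, 37, 27], 1),
  (.ex 1 [11, 7, 9, 3, 5] [9, 23, 28, 23, 2, 23, 6] [32, 5, 19, 5, 2, 34, 24], 0),
  (.ct 1 [7, 9, 3, 5, 2] [1, 3, 5, 7, 9, 11, 7, 9, 3, 5, 7, 3, 5, 3, 2] [19, 5, 31, 25, 28, 20] [7, 29, 23, 29, 40, 33], 1),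
  (.ex 1 [11, 7, 9, 3, 5, 1] [29, 15, 19, 15, 23, 27] [11, 35, 19, 31, 24, 24], 0),
  (.ct 1 [7, 9, 3, 5, 2] [11, 9, 5, 7, 1, 3, 13] [19, 5, 31, 25, 28, 20] [35, 38, 30, 26, 1, 10], 1),
  (.ct 1 [11, 7, 9, 1, 3, 5, 1] [3, 5, 7, 9, 11, 7, 9, 5, 7, 1, 3, 1] [19, 35, 37, 27, 38] [11, 34, 13, 3, 2], 1),
  (.can [1, 3, 5, 7, 9, 2, 3, 5, 7, 5, 3, 1, 13] [2, 26, 7, 9], 1),
  (.can [11, 2, 3, 5, 7, 9, 3, 5, 2, 3] [24, 2, 40, 33, 12, 23, 16], 0)]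
def r1 : List ℕ := [24, 2, 40, 33, 12, 23, 16]
def o2 : List (Op × ℕ) := [(.can [13] [1, 24, 15, 23, 2, 14], 5),
  (.ex 1 [5, 7, 9, 3, 5, 2] [5, 32, 40, 29, 22, 23] [7, 2, 37, 29, 28, 1], 2),
  (.ex 1 [5, 7, 9, 1, 3, 5, 1] [31, 38, 17, 26, 14, 38, 27] [33, 22, 9, 19, 23], 2),
  (.ct 1 [11, 9, 3, 5, 1] [9, 11, 2, 3, 5, 7, 9, 1, 3, 5, 7, 3, 5, 1, 3, 15] [39, 27, 39, 24, 39, 20] [19, 11, 27, 30, 14, 20], 1),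
  (.ex 1 [5, 7, 9, 7, 5, 1] [30, 34, 35, 27, 20] [23, 26, 2, 35, 4, 40, 21], 0),
  (.ct 1 [11, 7, 9, 7, 5, 2] [1, 3, 5, 7, 9, 2, 3, 5, 7, 2, 3, 5, 3, 13, 15] [19, 31, 25, 28, 30, 20] [29, 2, 39, 5, 2, 21, 36], 1),
  (.ex 1 [11, 9, 7, 5, 1] [24, 1, 38, 35, 2, 23, 20] [9, 3, 26, 19, 26, 10], 0),
  (.ct 1 [9, 5, 1] [7, 9, 3, 5, 1] [19, 9, 5, 2, 20] [1, 40, 22, 31, 4, 20, 1], 1),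
  (.ct 1 [3, 5, 7, 9, 1, 3, 5, 1] [2, 3, 5, 7, 9, 11, 2, 3, 5, 7, 9, 5, 7, 1, 3, 5, 3, 2, 13, 15] [24, 25, 3, 23, 8, 27] [24, 27, 23, 33, 2, 39, 23], 1),
  (.ct 1 [7, 9, 1] [1, 3, 5, 7, 9, 11, 1, 3, 5, 7, 9, 3, 5, 7, 3, 5, 1, 3, 2] [3, 25, 23, 19, 1, 24, 39] [31, 17, 31, 34, 20, 28], 2),
  (.ct 1 [5, 7, 9, 3, 5] [5, 7, 2, 3, 5, 1, 15] [27, 2, 39, 35, 28, 39, 29] [38, 32, 40, 27, 2, 32, 1], 1),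
  (.ex 1 [5, 7, 9, 3, 5] [17, 29, 3, 32, 20, 28] [15, 37, 28, 19], 2),
  (.ex 1 [11, 7, 9, 1, 3, 5, 1] [25, 3, 34, 15, 20, 33] [39, 29, 27, 2, 39], 2),
  (.ct 1 [11, 7, 9, 2, 3, 5, 1] [11, 9, 3, 5, 7, 1, 3, 5, 1, 3, 2, 15] [34, 30, 39, 15, 37] [2, 37, 9, 22, 2, 6, 28], 1),
  (.ex 1 [3, 5, 1] [34, 39, 21, 32, 10, 40, 36] [31, 34, 11, 2, 38, 25], 0),
  (.ct 1 [11, 9, 2, 3, 5, 1] [9, 11, 1, 3, 5, 7, 1, 3, 5, 1, 13] [9, 37, 30, 35, 38, 10] [33, 24, 13, 11, 2, 6, 39], 1),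
  (.ct 1 [5, 7, 9, 3, 5, 1] [3, 5, 7, 9, 11, 9, 5, 7, 3, 5, 2, 13, 15] [9, 30, 40, 33, 2, 16, 20] [39, 2, 27, 34, 24, 25], 1),
  (.ex 1 [11, 9, 1, 3, 5, 2] [29, 2, 23, 35, 8, 38, 31] [1, 32, 37, 35, 25, 2], 0),
  (.ct 1 [5, 7, 9, 3, 5, 1] [2, 3, 5, 7, 9, 11, 7, 9, 7, 5, 3, 2, 13] [9, 37, 28, 28, 2, 20] [28, 24, 29, 24, 2, 14, 32], 1),
  (.ex 1 [9, 7, 5, 2] [5, 19, 5, 30, 2, 22, 33] [28, 26, 19, 3, 2, 26, 30], 0),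
  (.ct 1 [9, 11, 5, 7, 9, 1, 3, 5, 1] [7, 9, 5, 7, 2, 3, 5, 2, 3, 2] [34, 21, 19, 34, 4] [30, 25, 5, 19, 4, 28], 1),
  (.ct 1 [7, 9, 1, 3, 5, 1] [1, 3, 5, 7, 9, 11, 9, 1, 3, 5, 7, 1, 3, 5, 1, 3] [32, 21, 24, 30, 8, 36] [35, 1, 34, 15, 2, 12], 1),
  (.can [3, 5, 7, 9, 11, 2, 3, 5, 7, 1, 3, 5, 1, 3, 15] [7, 9, 34, 15, 4], 1),
  (.can [7, 9, 11, 1, 3, 5, 7, 9, 2, 3, 5, 7, 5, 3, 2, 15] [39, 29, 23, 32, 10, 33], 0)]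
def r2 : List ℕ := [39, 29, 23, 32, 10, 33]
def o3 : List (Op × ℕ) := [(.can [11, 7, 3, 13, 15] [37, 26, 30, 15, 6, 38], 2),
  (.can [13] [1, 24, 15, 23, 2, 14], 3),
  (.ct 1 [] [9, 11, 1, 3, 5, 7, 9, 3, 5, 7, 5, 2] [19, 5, 38, 19, 18] [19, 30], 4),
  (.ex 1 [5, 7, 9, 5] [22, 28, 28, 19, 18, 27] [26, 1, 40, 31, 38, 33], 2),
  (.ct 1 [5, 7, 9, 5] [7, 9, 11, 3, 5, 7, 9, 3, 5, 7, 3, 15] [38, 24, 1, 28, 16, 20] [1, 24, 11, 3, 2], 1),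
  (.ex 0 [] [17] [31, 23, 32, 29, 6, 20], 0),
  (.ct 1 [11, 9, 2, 3, 5, 1] [3, 5, 7, 9, 11, 5, 7, 3, 5] [27, 31, 22, 19, 16] [9, 38, 28, 37, 20], 1),
  (.ct 1 [7, 9, 3, 5] [3, 5, 7, 9, 11, 9, 5] [35, 28, 24, 3, 1, 18] [35, 32, 15, 13, 6], 1),
  (.can [9, 11, 3, 5, 7, 9, 3, 5, 3, 13, 15] [34, 7, 28, 17, 2, 22], 1),
  (.can [7, 9, 11, 3, 5, 7, 9, 5, 7, 1, 3, 5, 3, 13, 15] [21, 23, 1, 3, 23, 32], 0)]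
def r3 : List ℕ := [21, 23, 1, 3, 23, 32]
def tS : List (List ℕ) := [[], [34, 37], [19], [38], []]
def oa : List (Op × ℕ) := [(.ct 1 [1, 3, 5, 7, 9, 2, 3, 5, 2] [3, 5, 7, 9, 11, 5, 7, 9, 5, 7, 3, 5, 2, 3, 1, 13] [1, 30, 3, 32, 20] [33, 1, 26, 31, 16, 37], 0),
  (.ct 1 [5] [7, 9, 11, 3, 5, 7, 9, 3, 5, 7, 3, 5, 2, 3, 1, 13, 15] [33, 25, 19, 35, 2, 26, 36] [27, 30, 1, 27, 16], 0),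
  (.can [5, 7, 9, 11, 5, 7, 9, 3, 5, 7, 3, 5, 1, 3, 2, 15] [9, 34, 38, 11], 0)]
def ob : List (Op × ℕ) := [(.ct 1 [] [] [34, 38, 13, 11, 4] [19, 38], 1),
  (.ct 1 [11, 9, 7, 5, 1] [1, 3, 5, 7, 9, 1, 3, 5, 7, 3] [33, 32, 26, 19] [2, 29, 31, 13, 4], 0),
  (.can [2, 3, 5, 7, 9, 11, 1, 3, 5, 3, 13] [9, 34, 37, 19, 16], 0)]
def ra : List ℕ := [9, 34, 38, 11]
def rb : List ℕ := [9, 34, 37, 19, 16]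
def oP : List (List (Op × ℕ)) := [[(.can [13] [19, 15, 19], 2), (.can [11, 7, 3, 13, 15] [15], 1), (.can [15] [], 0)],
  [(.can [11, 7, 3, 13, 15] [15], 2), (.can [15] [13], 1), (.can [13] [], 0)],
  [(.can [3] [3], 2), (.can [3] [3], 1), (.can [3] [], 0)],
  [(.can [7] [7], 2), (.can [7] [7], 1), (.can [7] [], 0)],
  [(.can [11] [11], 2), (.can [11] [11], 1), (.can [11] [], 0)],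
  [(.can [11, 7, 2, 3, 1, 13] [35, 28, 29, 15, 1], 2), (.can [11, 7, 2, 3, 1, 15] [1, 3, 2], 1), (.can [1, 3, 2] [], 0)],
  [(.can [11, 3, 5, 7, 3, 5, 3, 13] [5, 1, 35, 15, 2], 2), (.can [11, 3, 5, 7, 3, 5, 3, 15] [35, 26, 5, 1], 1), (.can [5, 7, 3, 5] [], 0)],
  [(.can [7, 9, 11, 7, 9, 7, 3, 13] [30, 33, 15, 5], 2), (.can [7, 9, 11, 7, 9, 7, 3, 15] [9, 11, 7, 9], 1), (.can [9, 11, 7, 9] [], 0)]]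

end CF.HNR
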